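import Mathlib
import Cfsg.Agent.H844.K5.Base
import Cfsg.Agent.GH.Defs
import Cfsg.Agent.H931.PspDuo
import Cfsg.Agent.H155.Unit

/-!
# S4874, `p = 2`: `PSL₃(q)`, `PSU₃(q)`, `PSp₄(q)`, `q` odd, are rich (tasks T11, T13; helper732)
-/

set_option autoImplicit false

open Cfsg Subgroup Matrix Cfsg.Agent.H844.K5 Cfsg.Agent.GH.Defs

namespace Cfsg.Agent.H732.K5

universe u

section abs

variable {S : Type*} [Group S] [Finite S]

/-- In a group with a normal 2-complement the product of two elements of odd order has odd order. -/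
theorem odd_of_compl {C : Type*} [Group C] [Finite C] (hC : HasNormalPComplement 2 C) {g h : C} {m n : ℕ}
    (hm : Odd m) (hn : Odd n) (hg : g ^ m = 1) (hh : h ^ n = 1) (h4 : (g * h) ^ 4 = 1) : g * h = 1 := by
  obtain ⟨P, N, hN, hc⟩ := hC
  have : Fact (Nat.Prime 2) := ⟨Nat.prime_two⟩
  have hcard : N.index = Nat.card (P : Subgroup C) := hc.symm.index_eq_card
  obtain ⟨k, hk⟩ := P.isPGroup'.exists_card_eq
  have key : ∀ {x : C} {j : ℕ}, Odd j → x ^ j = 1 → x ∈ N := by
    intro x j hj hx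
    have h1 : (QuotientGroup.mk' N x) ^ j = 1 := by rw [← map_pow, hx, map_one]
    have h2 : (QuotientGroup.mk' N x) ^ (2 ^ k) = 1 := by
      have h3 := pow_card_eq_one' (x := QuotientGroup.mk' N x)
      rwa [← Subgroup.index_eq_card, hcard, hk] at h3
    have h3 : orderOf (QuotientGroup.mk' N x) = 1 := by
      refine Nat.eq_one_of_dvd_coprimes (a := j) (b := 2 ^ k) ?_ (orderOf_dvd_of_pow_eq_one h1)
        (orderOf_dvd_of_pow_eq_one h2)
      exact (hj.coprime_two_right).pow_right k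
    rw [orderOf_eq_one_iff] at h3
    exact (QuotientGroup.eq_one_iff x).1 h3
  have hmem : g * h ∈ N := N.mul_mem (key hm hg) (key hn hh)
  have hodd : Odd (Nat.card N) := by
    have h1 : Nat.card N = (P : Subgroup C).index := hc.index_eq_card.symm
    rw [h1]
    have h2 := P.not_dvd_index
    exact Nat.not_even_iff_odd.1 fun h => h2 h.two_dvd
  have h5 : (⟨g * h, hmem⟩ : N) ^ 4 = 1 := Subtype.ext h4
  have h6 : orderOf (⟨g * h, hmem⟩ : N) = 1 := by
    refine Nat.eq_one_of_dvd_coprimes (a := 4) (b := Nat.card N) ?_ (orderOf_dvd_of_pow_eq_one h5)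
      (orderOf_dvd_natCard _)
    have : Nat.Coprime (2 ^ 2) (Nat.card N) := (hodd.coprime_two_left).pow_left 2
    exact this
  rw [orderOf_eq_one_iff] at h6
  exact congrArg Subtype.val h6

/-- two elements of odd order centralizing `x` whose product has order 4 -/
theorem wt_two {x g h : S} (hg : g * x = x * g) (hh : h * x = x * h) {m n : ℕ} (hm : Odd m) (hn : Odd n)
    (hgm : g ^ m = 1) (hhn : h ^ n = 1) (h4 : (g * h) ^ 4 = 1) (hne : g * h ≠ 1) : wt x = 2 := by
  refine wt_eq_two fun hC => hne ?_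
  have h1 := odd_of_compl hC (g := ⟨g, mem_centralizer_singleton_iff.2 hg⟩)
    (h := ⟨h, mem_centralizer_singleton_iff.2 hh⟩) hm hn (Subtype.ext hgm) (Subtype.ext hhn) (Subtype.ext h4)
  exact congrArg Subtype.val h1

/-- an element of order 8 whose fourth power has weight 2 -/
theorem rich_of_eight (y : S) (h8 : y ^ 8 = 1) (h4 : y ^ 4 ≠ 1) (hw : wt (y ^ 4) = 2) : Rich S := by
  classical
  have o1 : orderOf y = 8 := by
    have := orderOf_eq_prime_pow (p := 2) (n := 2) (x := y) (by simpa using h4) (by simpa using h8)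
    simpa using this
  have o2 : orderOf (y ^ 2) = 4 := by rw [orderOf_pow, o1]; norm_num
  have o4 : orderOf (y ^ 4) = 2 := by rw [orderOf_pow, o1]; norm_num
  have n12 : y ≠ y ^ 2 := fun h => by rw [← h, o1] at o2; omega
  have n14 : y ≠ y ^ 4 := fun h => by rw [← h, o1] at o4; omega
  have n24 : y ^ 2 ≠ y ^ 4 := fun h => by rw [← h, o2] at o4; omega
  refine ⟨{y, y ^ 2, y ^ 4}, ?_, ?_, ?_⟩
  · intro x hx
    simp only [Finset.mem_insert, Finset.mem_singleton] at hx
    rcases hx with rfl | rfl | rfl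
    · exact ⟨⟨3, by rw [o1]; norm_num⟩, fun h => by rw [h, orderOf_one] at o1; omega⟩
    · exact ⟨⟨2, by rw [o2]; norm_num⟩, fun h => by rw [h, orderOf_one] at o2; omega⟩
    · exact ⟨⟨1, by rw [o4]; norm_num⟩, fun h => by rw [h, orderOf_one] at o4; omega⟩
  · intro x hx z hz hxz _
    simp only [Finset.mem_insert, Finset.mem_singleton] at hx hz
    rcases hx with rfl | rfl | rfl <;> rcases hz with rfl | rfl | rfl <;>
      first | rfl | (exfalso; simp only [o1, o2, o4] at hxz; omega)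
  · rw [Finset.sum_insert (by simp [n12, n14]), Finset.sum_insert (by simp [n24]), Finset.sum_singleton, hw]
    have h1 := one_le_wt y
    have h2 := one_le_wt (y ^ 2)
    omega

/-- an element of order 4 of weight 2 -/
theorem rich_of_four (y : S) (h4 : y ^ 4 = 1) (h2 : y ^ 2 ≠ 1) (hw : wt y = 2) (hw2 : wt (y ^ 2) = 2) :
    Rich S := by
  classical
  have o1 : orderOf y = 4 := by
    have := orderOf_eq_prime_pow (p := 2) (n := 1) (x := y) (by simpa using h2) (by simpa using h4)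
    simpa using this
  have o2 : orderOf (y ^ 2) = 2 := by rw [orderOf_pow, o1]; norm_num
  have n12 : y ≠ y ^ 2 := fun h => by rw [← h, o1] at o2; omega
  refine ⟨{y, y ^ 2}, ?_, ?_, ?_⟩
  · intro x hx
    simp only [Finset.mem_insert, Finset.mem_singleton] at hx
    rcases hx with rfl | rfl
    · exact ⟨⟨2, by rw [o1]; norm_num⟩, fun h => by rw [h, orderOf_one] at o1; omega⟩
    · exact ⟨⟨1, by rw [o2]; norm_num⟩, fun h => by rw [h, orderOf_one] at o2; omega⟩
  · intro x hx z hz hxz _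
    simp only [Finset.mem_insert, Finset.mem_singleton] at hx hz
    rcases hx with rfl | rfl <;> rcases hz with rfl | rfl <;>
      first | rfl | (exfalso; simp only [o1, o2] at hxz; omega)
  · rw [Finset.sum_insert (by simp [n12]), Finset.sum_singleton, hw, hw2]

end abs


/-! ### `PSL₃(q)` -/

section three

variable {F : Type*} [Field F]

/-- a `2 × 2` block and a scalar -/
def bl (a b c d e : F) : Matrix (Fin 3) (Fin 3) F := !![a, b, 0; c, d, 0; 0, 0, e]

theorem bl_mul (a b c d e a' b' c' d' e' : F) : bl a b c d e * bl a' b' c' d' e' =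
    bl (a * a' + b * c') (a * b' + b * d') (c * a' + d * c') (c * b' + d * d') (e * e') := by
  ext i j
  fin_cases i <;> fin_cases j <;> simp [bl, Matrix.mul_apply, Fin.sum_univ_three]

theorem bl_one : bl (1 : F) 0 0 1 1 = 1 := by
  ext i j
  fin_cases i <;> fin_cases j <;> simp [bl]

theorem bl_det (a b c d e : F) : (bl a b c d e).det = (a * d - b * c) * e := by
  rw [bl, Matrix.det_fin_three]
  simp
  ring

theorem up_pow (b : F) (n : ℕ) : bl 1 b 0 1 1 ^ n = bl 1 (n * b) 0 1 1 := by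
  induction n with
  | zero => simp [bl_one]
  | succ n ih =>
    rw [pow_succ, ih, bl_mul]
    congr 1 <;> push_cast <;> ring

theorem lo_pow (c : F) (n : ℕ) : bl 1 0 c 1 1 ^ n = bl 1 0 (n * c) 1 1 := by
  induction n with
  | zero => simp [bl_one]
  | succ n ih =>
    rw [pow_succ, ih, bl_mul]
    congr 1 <;> push_cast <;> ring

theorem upLo_sq {b c : F} (h : b * c = -2) : (bl 1 b 0 1 1 * bl 1 0 c 1 1) * (bl 1 b 0 1 1 * bl 1 0 c 1 1) =
    bl (-1) 0 0 (-1) 1 := by
  rw [bl_mul, bl_mul]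
  congr 1
  · linear_combination (b * c + 1) * h
  · linear_combination b * h
  · linear_combination c * h
  · linear_combination h
  · ring

/-- In odd characteristic there is a `2 × 2` matrix of order 8: a quadratic factor of `X⁴ + 1`. -/
theorem exists_quad [Fintype F] :
    ∃ a b : F, b ≠ 0 ∧ a ^ 3 = 2 * a * b ∧ b ^ 2 - a ^ 2 * b = -1 ∧ b ^ 4 = 1 := by
  by_cases h4 : Fintype.card F % 4 = 3
  · have h8 : Fintype.card F % 8 = 3 ∨ Fintype.card F % 8 = 7 := by omega
    rcases h8 with h8 | h8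
    · obtain ⟨s, hs⟩ := FiniteField.isSquare_neg_two_iff.2 (show Fintype.card F % 8 ≠ 5 ∧ Fintype.card F % 8 ≠ 7 by omega)
      refine ⟨s, -1, by norm_num, ?_, ?_, by ring⟩
      · linear_combination -s * hs
      · linear_combination -hs
    · obtain ⟨s, hs⟩ := FiniteField.isSquare_two_iff.2 (show Fintype.card F % 8 ≠ 3 ∧ Fintype.card F % 8 ≠ 5 by omega)
      refine ⟨s, 1, by norm_num, ?_, ?_, by ring⟩
      · linear_combination -s * hs
      · linear_combination hs
  · obtain ⟨i, hi⟩ := FiniteField.isSquare_neg_one_iff.2 h4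
    refine ⟨0, i, ?_, by ring, ?_, ?_⟩
    · rintro rfl
      norm_num at hi
    · linear_combination -hi
    · linear_combination (1 - i * i) * hi

/-- the characteristic -/
theorem exists_char [Fintype F] (hF : Odd (Fintype.card F)) : ∃ p : ℕ, Odd p ∧ (p : F) = 0 ∧ (2 : F) ≠ 0 := by
  obtain ⟨p, hp⟩ := CharP.exists F
  have hpp : p.Prime := CharP.char_is_prime F p
  obtain ⟨f, -, hf⟩ := FiniteField.card F p
  have ho : Odd p := by
    rw [hf] at hF
    exact Nat.not_even_iff_odd.1 fun h => Nat.not_even_iff_odd.2 hF (h.pow_of_ne_zero (by exact_mod_cast f.pos.ne'))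
  refine ⟨p, ho, CharP.cast_eq_zero F p, fun h2 => ?_⟩
  have h1 : p ∣ 2 := (CharP.cast_eq_zero_iff F p 2).1 (by exact_mod_cast h2)
  rw [(Nat.prime_dvd_prime_iff_eq hpp Nat.prime_two).1 h1] at ho
  exact absurd ho (by decide)

end three

/-- **`PSL₃(q)`, `q` odd, is rich.** -/
theorem rich_l3 {S : Type u} [Group S] [Finite S] (h : IsL3odd S) : Rich S := by
  obtain ⟨F, _, _, hF, ⟨e⟩⟩ := h
  obtain ⟨p, hpo, hp0, h2⟩ := exists_char hF
  obtain ⟨a, b, hb, h3, h4, h5⟩ := exists_quad (F := F)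
  have hfin : Finite (Matrix.ProjectiveSpecialLinearGroup (Fin 3) F) := Finite.of_equiv _ e.toEquiv
  refine Rich.congr e.symm ?_
  let π : SpecialLinearGroup (Fin 3) F →* Matrix.ProjectiveSpecialLinearGroup (Fin 3) F := QuotientGroup.mk' _
  let Y : SpecialLinearGroup (Fin 3) F := ⟨bl 0 (-b) 1 a b⁻¹, by rw [bl_det]; field_simp; ring⟩
  let G : SpecialLinearGroup (Fin 3) F := ⟨bl 1 1 0 1 1, by rw [bl_det]; ring⟩
  let H : SpecialLinearGroup (Fin 3) F := ⟨bl 1 0 (-2) 1 1, by rw [bl_det]; ring⟩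
  let T : SpecialLinearGroup (Fin 3) F := ⟨bl (-1) 0 0 (-1) 1, by rw [bl_det]; ring⟩
  have hY : Y ^ 4 = T := by
    rw [show (4 : ℕ) = 2 + 2 from rfl, pow_add, pow_two]
    refine Subtype.ext ?_
    change (bl 0 (-b) 1 a b⁻¹ * bl 0 (-b) 1 a b⁻¹) * (bl 0 (-b) 1 a b⁻¹ * bl 0 (-b) 1 a b⁻¹) = bl (-1) 0 0 (-1) 1
    rw [bl_mul, bl_mul]
    congr 1
    · linear_combination h4
    · linear_combination -b * h3
    · linear_combination h3
    · linear_combination a * h3 + h4
    · field_simp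
      exact h5.symm
  have hT2 : T * T = 1 := by
    refine Subtype.ext ?_
    change bl (-1) 0 0 (-1) 1 * bl (-1) 0 0 (-1) 1 = (1 : Matrix (Fin 3) (Fin 3) F)
    rw [bl_mul, ← bl_one]
    congr 1 <;> ring
  have hTc : π T ≠ 1 := by
    intro hT
    have h6 : T ∈ center (SpecialLinearGroup (Fin 3) F) := (QuotientGroup.eq_one_iff T).1 hT
    obtain ⟨r, -, hr⟩ := Matrix.SpecialLinearGroup.mem_center_iff.1 h6
    have h7 := congrFun (congrFun hr 0) 0
    have h8 := congrFun (congrFun hr 2) 2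
    have h9 : r = -1 := by
      change (Matrix.scalar (Fin 3) r) 0 0 = -1 at h7
      simpa using h7
    have h10 : r = 1 := by
      change (Matrix.scalar (Fin 3) r) 2 2 = 1 at h8
      simpa using h8
    exact h2 (by linear_combination h9 - h10)
  have hGH : (G * H) * (G * H) = T := Subtype.ext (upLo_sq (by ring))
  have hGp : G ^ p = 1 := by
    refine Subtype.ext ?_
    change (bl 1 1 0 1 1 : Matrix (Fin 3) (Fin 3) F) ^ p = 1
    rw [up_pow, hp0, zero_mul, bl_one]
  have hHp : H ^ p = 1 := by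
    refine Subtype.ext ?_
    change (bl 1 0 (-2) 1 1 : Matrix (Fin 3) (Fin 3) F) ^ p = 1
    rw [lo_pow, hp0, zero_mul, bl_one]
  have hGT : G * T = T * G := by
    refine Subtype.ext ?_
    change bl 1 1 0 1 1 * bl (-1) 0 0 (-1) 1 = bl (-1) 0 0 (-1) 1 * bl 1 1 0 1 (1 : F)
    rw [bl_mul, bl_mul]
    congr 1 <;> ring
  have hHT : H * T = T * H := by
    refine Subtype.ext ?_
    change bl 1 0 (-2) 1 1 * bl (-1) 0 0 (-1) 1 = bl (-1) 0 0 (-1) 1 * bl 1 0 (-2) 1 (1 : F)
    rw [bl_mul, bl_mul]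
    congr 1 <;> ring
  have hπY : π Y ^ 4 = π T := by rw [← map_pow, hY]
  have hπG : (π G * π H) ^ 2 = π T := by rw [pow_two, ← map_mul, ← map_mul, hGH]
  refine rich_of_eight (π Y) ?_ (by rw [hπY]; exact hTc) ?_
  · rw [show (8 : ℕ) = 4 * 2 by rfl, pow_mul, hπY, pow_two, ← map_mul, hT2, map_one]
  · rw [hπY]
    refine wt_two (g := π G) (h := π H) (m := p) (n := p) ?_ ?_ hpo hpo ?_ ?_ ?_ ?_
    · rw [← map_mul, hGT, map_mul]
    · rw [← map_mul, hHT, map_mul]
    · rw [← map_pow, hGp, map_one]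
    · rw [← map_pow, hHp, map_one]
    · rw [show (4 : ℕ) = 2 * 2 by rfl, pow_mul, hπG, pow_two, ← map_mul, hT2, map_one]
    · intro h1
      rw [h1, one_pow] at hπG
      exact hTc hπG.symm

/-- **`PSp₄(q)`, `q` odd, is rich.** -/
theorem rich_sp4 {S : Type u} [Group S] [Finite S] (h : IsSp4odd S) : Rich S := by
  obtain ⟨F, _, _, hF, ⟨e⟩⟩ := h
  obtain ⟨p, hpo, hp0, h2⟩ := exists_char hF
  have hfin : Finite (Cfsg.PSp 2 F) := Finite.of_equiv _ e.toEquiv
  refine Rich.congr e.symm ?_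
  let A : Matrix.SpecialLinearGroup (Fin 2) F := ⟨!![0, -1; 1, 0], by simp⟩
  let U : Matrix.SpecialLinearGroup (Fin 2) F := ⟨!![1, 1; 0, 1], by simp⟩
  let V : Matrix.SpecialLinearGroup (Fin 2) F := ⟨!![1, 0; -2, 1], by simp⟩
  have hAA : A * A = -1 := by
    refine Subtype.ext ?_
    change (!![0, -1; 1, 0] * !![0, -1; 1, 0] : Matrix (Fin 2) (Fin 2) F) = -1
    ext i j
    fin_cases i <;> fin_cases j <;> simp
  have hUV : (U * V) * (U * V) = -1 := by
    refine Subtype.ext ?_
    change ((!![1, 1; 0, 1] * !![1, 0; -2, 1]) * (!![1, 1; 0, 1] * !![1, 0; -2, 1]) : Matrix (Fin 2) (Fin 2) F) = -1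
    rw [Matrix.mul_fin_two, Matrix.mul_fin_two]
    ext i j
    fin_cases i <;> fin_cases j <;> norm_num
  have hU : ∀ n : ℕ, ((U ^ n : Matrix.SpecialLinearGroup (Fin 2) F) : Matrix (Fin 2) (Fin 2) F) = !![1, (n : F); 0, 1] := by
    intro n
    induction n with
    | zero => ext i j; fin_cases i <;> fin_cases j <;> simp
    | succ n ih =>
      rw [pow_succ, Matrix.SpecialLinearGroup.coe_mul, ih]
      ext i j
      fin_cases i <;> fin_cases j <;> simp [U]; ring
  have hV : ∀ n : ℕ, ((V ^ n : Matrix.SpecialLinearGroup (Fin 2) F) : Matrix (Fin 2) (Fin 2) F) = !![1, 0; (n : F) * (-2), 1] := by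
    intro n
    induction n with
    | zero => ext i j; fin_cases i <;> fin_cases j <;> simp
    | succ n ih =>
      rw [pow_succ, Matrix.SpecialLinearGroup.coe_mul, ih]
      ext i j
      fin_cases i <;> fin_cases j <;> simp [V]; ring
  have hUp : U ^ p = 1 := by
    refine Subtype.ext ?_
    rw [hU, hp0]
    ext i j
    fin_cases i <;> fin_cases j <;> simp
  have hVp : V ^ p = 1 := by
    refine Subtype.ext ?_
    rw [hV, hp0, zero_mul]
    ext i j
    fin_cases i <;> fin_cases j <;> simp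
  let D := H931.PspDuo.duo h2
  have hj : H931.PspDuo.π F (H931.PspDuo.mk (-1) 1) ≠ 1 := D.j_ne_one h2
  have hx2 : (D.e1 A) ^ 2 = H931.PspDuo.π F (H931.PspDuo.mk (-1) 1) := by
    rw [pow_two, ← map_mul, hAA]
    exact D.neg1
  have hj2 : H931.PspDuo.π F (H931.PspDuo.mk (-1) 1) * H931.PspDuo.π F (H931.PspDuo.mk (-1) 1) = 1 := by
    rw [← D.neg1, ← map_mul, neg_mul_neg, one_mul, map_one]
  have huv : (D.e2 U * D.e2 V) ^ 2 = H931.PspDuo.π F (H931.PspDuo.mk (-1) 1) := by
    rw [pow_two, ← map_mul, ← map_mul, hUV]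
    exact D.neg2
  have key : ∀ x, D.e2 U * x = x * D.e2 U → D.e2 V * x = x * D.e2 V → wt x = 2 := by
    intro x h1 h3
    refine wt_two (g := D.e2 U) (h := D.e2 V) (m := p) (n := p) h1 h3 hpo hpo ?_ ?_ ?_ ?_
    · rw [← map_pow, hUp, map_one]
    · rw [← map_pow, hVp, map_one]
    · rw [show (4 : ℕ) = 2 * 2 by rfl, pow_mul, huv, pow_two, hj2]
    · intro h1
      rw [h1, one_pow] at huv
      exact hj huv.symm
  refine rich_of_four (D.e1 A) ?_ (by rw [hx2]; exact hj) (key _ (D.comm _ _).symm (D.comm _ _).symm) ?_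
  · rw [show (4 : ℕ) = 2 * 2 by rfl, pow_mul, hx2, pow_two, hj2]
  · rw [← map_pow]
    exact key _ (D.comm _ _).symm (D.comm _ _).symm

end Cfsg.Agent.H732.K5
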