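import Mathlib
import Cfsg.Agent.H732.K5.Rich

/-!
# S4874, `p = 2`: `PSU₃(q)`, `q` odd, is rich (task T11; helper732)
-/

set_option autoImplicit false

open Cfsg Subgroup Matrix Cfsg.Agent.H844.K5 Cfsg.Agent.GH.Defs

namespace Cfsg.Agent.H732.K5

universe u

variable {F : Type*} [Field F]

/-- isotropic vectors `(1, l)`, `(1, -l)` -/
def pm (l : F) : Matrix (Fin 3) (Fin 3) F := bl 1 1 l (-l) 1

/-- the inverse of `pm l` -/
def qm (l : F) : Matrix (Fin 3) (Fin 3) F := bl 2⁻¹ (2 * l)⁻¹ 2⁻¹ (-(2 * l)⁻¹) 1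

theorem pm_mul_qm (h2 : (2 : F) ≠ 0) {l : F} (hl : l ≠ 0) : pm l * qm l = 1 := by
  rw [pm, qm, bl_mul, ← bl_one]
  congr 1 <;> field_simp <;> ring

theorem qm_mul_pm (h2 : (2 : F) ≠ 0) {l : F} (hl : l ≠ 0) : qm l * pm l = 1 := by
  rw [pm, qm, bl_mul, ← bl_one]
  congr 1 <;> field_simp <;> ring

theorem bl_transpose (a b c d e : F) : (bl a b c d e)ᵀ = bl a c b d e := by
  ext i j
  fin_cases i <;> fin_cases j <;> simp [bl]

theorem bl_map (σ : F →+* F) (a b c d e : F) : (bl a b c d e).map σ = bl (σ a) (σ b) (σ c) (σ d) (σ e) := by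
  ext i j
  fin_cases i <;> fin_cases j <;> simp [bl]

theorem unit_of (σ : F →+* F) (h2 : (2 : F) ≠ 0) {l : F} (hl0 : l ≠ 0) (hl : l * σ l = -1)
    {D : Matrix (Fin 3) (Fin 3) F} (hD : Dᵀ * bl 0 2 2 0 1 * D.map σ = bl 0 2 2 0 1) :
    (pm l * D * qm l)ᵀ * (pm l * D * qm l).map σ = 1 := by
  have hP : (pm l)ᵀ * (pm l).map σ = bl 0 2 2 0 1 := by
    rw [pm, bl_transpose, bl_map, bl_mul]
    simp only [map_one, map_neg]
    congr 1
    · linear_combination hl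
    · linear_combination -hl
    · linear_combination -hl
    · linear_combination hl
    · ring
  rw [Matrix.map_mul, Matrix.map_mul, Matrix.transpose_mul, Matrix.transpose_mul]
  calc (qm l)ᵀ * (Dᵀ * (pm l)ᵀ) * ((pm l).map σ * D.map σ * (qm l).map σ)
      = (qm l)ᵀ * (Dᵀ * ((pm l)ᵀ * (pm l).map σ) * D.map σ) * (qm l).map σ := by
        simp only [Matrix.mul_assoc]
    _ = (qm l)ᵀ * ((pm l)ᵀ * (pm l).map σ) * (qm l).map σ := by rw [hP, hD]
    _ = (pm l * qm l)ᵀ * (pm l * qm l).map σ := by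
        rw [Matrix.map_mul, Matrix.transpose_mul]
        simp only [Matrix.mul_assoc]
    _ = 1 := by
        rw [pm_mul_qm h2 hl0, Matrix.transpose_one, Matrix.map_one σ (map_zero σ) (map_one σ), one_mul]

theorem det_cj (h2 : (2 : F) ≠ 0) {l : F} (hl0 : l ≠ 0) {D : Matrix (Fin 3) (Fin 3) F} (hD : D.det = 1) :
    (pm l * D * qm l).det = 1 := by
  rw [Matrix.det_mul, Matrix.det_mul, hD, mul_one, ← Matrix.det_mul, pm_mul_qm h2 hl0, Matrix.det_one]

theorem cj_mul (h2 : (2 : F) ≠ 0) {l : F} (hl0 : l ≠ 0) (D E : Matrix (Fin 3) (Fin 3) F) :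
    (pm l * D * qm l) * (pm l * E * qm l) = pm l * (D * E) * qm l := by
  calc (pm l * D * qm l) * (pm l * E * qm l) = pm l * D * (qm l * pm l) * E * qm l := by
        simp only [Matrix.mul_assoc]
    _ = _ := by
        rw [qm_mul_pm h2 hl0, mul_one]
        simp only [Matrix.mul_assoc]

theorem cj_pow (h2 : (2 : F) ≠ 0) {l : F} (hl0 : l ≠ 0) (D : Matrix (Fin 3) (Fin 3) F) (n : ℕ) :
    (pm l * D * qm l) ^ n = pm l * D ^ n * qm l := by
  induction n with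
  | zero => rw [pow_zero, pow_zero, mul_one, pm_mul_qm h2 hl0]
  | succ n ih => rw [pow_succ, ih, cj_mul h2 hl0, ← pow_succ]

theorem exists_pow_neg [Fintype F] {m : ℕ} (hm : 0 < m) (h : 2 * m ∣ Fintype.card F - 1) :
    ∃ x : F, x ^ m = -1 := by
  classical
  obtain ⟨u, hu⟩ := IsCyclic.exists_generator (α := Fˣ)
  have h1 : orderOf u = Fintype.card F - 1 := by
    rw [orderOf_eq_card_of_forall_mem_zpowers hu, Nat.card_eq_fintype_card, Fintype.card_units]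
  obtain ⟨c, hc⟩ := h
  have hq : 1 < Fintype.card F := Fintype.one_lt_card
  have hc0 : c ≠ 0 := by
    rintro rfl
    omega
  have h2 : orderOf (u ^ c) = 2 * m := by
    rw [orderOf_pow_of_dvd hc0 (by rw [h1, hc]; exact dvd_mul_left _ _), h1, hc, Nat.mul_div_cancel _ (Nat.pos_of_ne_zero hc0)]
  refine ⟨((u ^ c : Fˣ) : F), ?_⟩
  have h3 : ((u ^ c : Fˣ) : F) ^ m * ((u ^ c : Fˣ) : F) ^ m = 1 := by
    have : (u ^ c) ^ (2 * m) = 1 := h2 ▸ pow_orderOf_eq_one _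
    rw [← pow_add, ← two_mul, ← Units.val_pow_eq_pow_val, this, Units.val_one]
  rcases mul_self_eq_one_iff.1 h3 with h4 | h4
  · exfalso
    have h5 : (u ^ c) ^ m = 1 := Units.ext (by rw [Units.val_pow_eq_pow_val, h4, Units.val_one])
    have h6 := Nat.le_of_dvd hm (orderOf_dvd_of_pow_eq_one h5)
    rw [h2] at h6
    omega
  · exact h4

/-- **`PSU₃(q)`, `q` odd, is rich.** -/
theorem rich_u3 {S : Type u} [Group S] [Finite S] (h : IsU3odd S) : Rich S := by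
  obtain ⟨F, _, _, q, hF, hq, ⟨e⟩⟩ := h
  have hFo : Odd (Fintype.card F) := by rw [hF]; exact hq.pow
  obtain ⟨p, hpo, hp0, h2⟩ := exists_char hFo
  have hfin : Finite (Cfsg.PSU 3 F q) := Finite.of_equiv _ e.toEquiv
  refine Rich.congr e.symm ?_
  -- the field automorphism
  obtain ⟨σ, hσ⟩ : ∃ σ : F →+* F, ∀ x, σ x = x ^ q := by
    obtain ⟨r, hr⟩ := CharP.exists F
    have hrp : Fact r.Prime := ⟨CharP.char_is_prime F r⟩
    obtain ⟨j, -, hj⟩ := H155.Unit.exists_pow hF r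
    obtain ⟨σ, hσ⟩ := H155.Unit.exists_frobHom F r j
    exact ⟨σ, fun x => by rw [hσ, hj]⟩
  have hσσ : ∀ x, σ (σ x) = x := by
    intro x
    rw [hσ, hσ, ← pow_mul, ← pow_two, ← hF, FiniteField.pow_card]
  have hq1 : 1 < q := by
    have h1 : 1 < Fintype.card F := Fintype.one_lt_card
    rw [hF] at h1
    by_contra hc
    interval_cases q <;> omega
  have hcard : Fintype.card F - 1 = (q - 1) * (q + 1) := by
    rw [hF, mul_comm]
    simpa using Nat.sq_sub_sq q 1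
  obtain ⟨k, hk⟩ := hq
  obtain ⟨l, hl⟩ : ∃ l : F, l ^ (q + 1) = -1 := by
    refine exists_pow_neg (by omega) ?_
    rw [hcard]
    exact mul_dvd_mul (by rw [hk]; exact ⟨k, by omega⟩) dvd_rfl
  obtain ⟨b, hb⟩ : ∃ b : F, b ^ (q - 1) = -1 := by
    refine exists_pow_neg (by omega) ?_
    rw [hcard, mul_comm]
    exact mul_dvd_mul dvd_rfl (by rw [hk]; exact ⟨k + 1, by ring⟩)
  obtain ⟨θ, hθ⟩ : ∃ θ : F, θ ^ 4 = -1 := by
    refine exists_pow_neg (by norm_num) ?_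
    rw [hcard, hk]
    have h1 : (2 * k + 1 - 1) * (2 * k + 1 + 1) = 4 * (k * (k + 1)) := by
      rw [Nat.add_sub_cancel]; ring
    rw [h1]
    obtain ⟨m, hm⟩ := (Nat.even_mul_succ_self k).two_dvd
    exact ⟨m, by rw [hm]; ring⟩
  have hl0 : l ≠ 0 := by
    rintro rfl
    rw [zero_pow (by omega)] at hl
    exact one_ne_zero (neg_eq_zero.1 hl.symm)
  have hb0 : b ≠ 0 := by
    rintro rfl
    rw [zero_pow (by omega)] at hb
    exact one_ne_zero (neg_eq_zero.1 hb.symm)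
  have hθ0 : θ ≠ 0 := by
    rintro rfl
    norm_num at hθ
  have hlσ : l * σ l = -1 := by rw [hσ, ← pow_succ', hl]
  have hbσ : σ b = -b := by
    rw [hσ, show q = q - 1 + 1 by omega, pow_succ, hb]
    ring
  have hθσ0 : σ θ ≠ 0 := (map_ne_zero σ).2 hθ0
  have hθσ : (σ θ) ^ 4 = -1 := by rw [← map_pow, hθ, map_neg, map_one]
  set c : F := -2 / b with hc
  have hbc : b * c = -2 := by rw [hc]; field_simp
  have hcσ : σ c = -c := by
    rw [hc, map_div₀, hbσ, map_neg, map_ofNat]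
    field_simp
  set DY := bl θ 0 0 (σ θ)⁻¹ (σ θ / θ) with hDY
  set DG := bl 1 b 0 1 (1 : F) with hDG
  set DH := bl 1 0 c 1 (1 : F) with hDH
  have uY : DYᵀ * bl 0 2 2 0 1 * DY.map σ = bl 0 2 2 0 1 := by
    rw [hDY, bl_transpose, bl_map, bl_mul, bl_mul, map_inv₀, map_div₀, hσσ, map_zero]
    congr 1 <;> field_simp <;> ring
  have uG : DGᵀ * bl 0 2 2 0 1 * DG.map σ = bl 0 2 2 0 1 := by
    rw [hDG, bl_transpose, bl_map, bl_mul, bl_mul, hbσ, map_zero, map_one]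
    congr 1 <;> ring
  have uH : DHᵀ * bl 0 2 2 0 1 * DH.map σ = bl 0 2 2 0 1 := by
    rw [hDH, bl_transpose, bl_map, bl_mul, bl_mul, hcσ, map_zero, map_one]
    congr 1 <;> ring
  have dY : DY.det = 1 := by rw [hDY, bl_det]; field_simp; ring
  have dG : DG.det = 1 := by rw [hDG, bl_det]; ring
  have dH : DH.det = 1 := by rw [hDH, bl_det]; ring
  have hmem : ∀ {D : Matrix (Fin 3) (Fin 3) F} (hd : D.det = 1), Dᵀ * bl 0 2 2 0 1 * D.map σ = bl 0 2 2 0 1 →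
      (⟨pm l * D * qm l, det_cj h2 hl0 hd⟩ : Matrix.SpecialLinearGroup (Fin 3) F) ∈ Cfsg.SU 3 F q := by
    intro D hd hu
    exact (H155.Unit.mem_SU_iff_matrix σ hσ
      (⟨pm l * D * qm l, det_cj h2 hl0 hd⟩ : Matrix.SpecialLinearGroup (Fin 3) F)).2 (unit_of σ h2 hl0 hlσ hu)
  let π : Cfsg.SU 3 F q →* Cfsg.PSU 3 F q := QuotientGroup.mk' _
  let Y : Cfsg.SU 3 F q := ⟨⟨pm l * DY * qm l, det_cj h2 hl0 dY⟩, hmem dY uY⟩
  let G : Cfsg.SU 3 F q := ⟨⟨pm l * DG * qm l, det_cj h2 hl0 dG⟩, hmem dG uG⟩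
  let H : Cfsg.SU 3 F q := ⟨⟨pm l * DH * qm l, det_cj h2 hl0 dH⟩, hmem dH uH⟩
  have ext' : ∀ {A B : Cfsg.SU 3 F q}, (A.1.1 = B.1.1) → A = B := fun h => Subtype.ext (Subtype.ext h)
  have hT : ((Y ^ 4 : Cfsg.SU 3 F q).1.1 : Matrix (Fin 3) (Fin 3) F) = pm l * bl (-1) 0 0 (-1) 1 * qm l := by
    change (pm l * DY * qm l) ^ 4 = _
    rw [cj_pow h2 hl0]
    congr 2
    rw [show (4 : ℕ) = 2 + 2 from rfl, pow_add, pow_two, hDY, bl_mul, bl_mul]
    congr 1
    · linear_combination hθ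
    · ring
    · ring
    · field_simp
      linear_combination hθσ
    · field_simp
      linear_combination hθσ - hθ
  have hblT : pm l * bl (-1) 0 0 (-1) 1 * qm l = bl (-1) 0 0 (-1) 1 := by
    rw [pm, qm, bl_mul, bl_mul]
    congr 1 <;> field_simp <;> ring
  have hT2 : Y ^ 4 * Y ^ 4 = 1 := by
    refine ext' ?_
    change (Y ^ 4 : Cfsg.SU 3 F q).1.1 * (Y ^ 4 : Cfsg.SU 3 F q).1.1 = 1
    rw [hT, hblT, bl_mul, ← bl_one]
    congr 1 <;> ring
  have hTc : π (Y ^ 4) ≠ 1 := by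
    intro h1
    have h6 : Y ^ 4 ∈ center (Cfsg.SU 3 F q) := (QuotientGroup.eq_one_iff (Y ^ 4)).1 h1
    obtain ⟨r, h7, h8, h9⟩ := (LieClassical.SUBasic.mem_center_SU_iff hF le_rfl _).1 h6
    have h10 : bl (-1) 0 0 (-1) 1 = (diagonal fun _ => r : Matrix (Fin 3) (Fin 3) F) := by
      rw [← hblT, ← hT, h9]
      rfl
    have h11 := congrFun (congrFun h10 0) 0
    have h12 := congrFun (congrFun h10 2) 2
    simp [bl] at h11 h12
    exact h2 (by linear_combination h12 - h11)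
  have hGH : (G * H) * (G * H) = Y ^ 4 := by
    refine ext' ?_
    rw [hT]
    change ((pm l * DG * qm l) * (pm l * DH * qm l)) * ((pm l * DG * qm l) * (pm l * DH * qm l)) = _
    rw [cj_mul h2 hl0, cj_mul h2 hl0, upLo_sq hbc]
  have hGp : G ^ p = 1 := by
    refine ext' ?_
    change (pm l * DG * qm l) ^ p = 1
    rw [cj_pow h2 hl0, up_pow, hp0, zero_mul, bl_one, mul_one, pm_mul_qm h2 hl0]
  have hHp : H ^ p = 1 := by
    refine ext' ?_
    change (pm l * DH * qm l) ^ p = 1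
    rw [cj_pow h2 hl0, lo_pow, hp0, zero_mul, bl_one, mul_one, pm_mul_qm h2 hl0]
  have hGT : G * Y ^ 4 = Y ^ 4 * G := by
    refine ext' ?_
    change (pm l * DG * qm l) * (Y ^ 4 : Cfsg.SU 3 F q).1.1 = (Y ^ 4 : Cfsg.SU 3 F q).1.1 * (pm l * DG * qm l)
    rw [hT, cj_mul h2 hl0, cj_mul h2 hl0, hDG, bl_mul, bl_mul]
    congr 3 <;> ring
  have hHT : H * Y ^ 4 = Y ^ 4 * H := by
    refine ext' ?_
    change (pm l * DH * qm l) * (Y ^ 4 : Cfsg.SU 3 F q).1.1 = (Y ^ 4 : Cfsg.SU 3 F q).1.1 * (pm l * DH * qm l)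
    rw [hT, cj_mul h2 hl0, cj_mul h2 hl0, hDH, bl_mul, bl_mul]
    congr 3 <;> ring
  have hπG : (π G * π H) ^ 2 = π (Y ^ 4) := by rw [pow_two, ← map_mul, ← map_mul, hGH]
  have hπY : π Y ^ 4 = π (Y ^ 4) := (map_pow _ _ _).symm
  refine rich_of_eight (π Y) ?_ (by rw [hπY]; exact hTc) ?_
  · rw [show (8 : ℕ) = 4 * 2 by rfl, pow_mul, hπY, pow_two, ← map_mul, hT2, map_one]
  · rw [hπY]
    refine wt_two (g := π G) (h := π H) (m := p) (n := p) ?_ ?_ hpo hpo ?_ ?_ ?_ ?_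
    · rw [← map_mul, hGT, map_mul]
    · rw [← map_mul, hHT, map_mul]
    · rw [← map_pow, hGp, map_one]
    · rw [← map_pow, hHp, map_one]
    · rw [show (4 : ℕ) = 2 * 2 by rfl, pow_mul, hπG, pow_two, ← map_mul, hT2, map_one]
    · intro h1
      rw [h1, one_pow] at hπG
      exact hTc hπG.symm

end Cfsg.Agent.H732.K5
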